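import Cfsg.Agent.Lib.H5.Glaub.Defs

/-! # S4359: pieces (NC) and (DIST) of `tools/blueprints/S4359.md` -/

set_option autoImplicit false

namespace Cfsg.Agent.Lib.H5.Glaub

open scoped Pointwise
open Setup

variable {G : Type*} [Group G] [Finite G]

theorem card_X (S : Setup G) (t : ℕ) (hU : S.Uni t) (k : ℤ) : Nat.card (S.X t k) = S.p := by
  have h := hU.card k (t - 1) (Nat.sub_le _ _)
  have ht := hU.pos
  have : t - (t - 1) = 1 := by omega
  rw [this, pow_one] at h
  exact h

theorem X_ne_bot (S : Setup G) (t : ℕ) (hU : S.Uni t) (k : ℤ) : S.X t k ≠ ⊥ := by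
  intro h
  have h1 := card_X S t hU k
  rw [h, Subgroup.card_bot] at h1
  exact S.hp.one_lt.ne h1

theorem comm_X_self (S : Setup G) (t : ℕ) (hU : S.Uni t) (k : ℤ) : Comm (S.X t k) (S.X t k) := by
  haveI : Fact S.p.Prime := ⟨S.hp⟩
  haveI hc : IsCyclic (S.X t k) := isCyclic_of_prime_card (p := S.p) (card_X S t hU k)
  intro a ha b hb
  have := (IsCyclic.commGroup (α := S.X t k)).mul_comm ⟨a, ha⟩ ⟨b, hb⟩
  exact congrArg Subtype.val this

/-- if `X_0` commutes with all `X_d`, `d < q`, then `X_i` and `X_j` commute whenever `|i - j| < q` -/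
theorem comm_of_forall (S : Setup G) (t q : ℕ) (h : ∀ d : ℕ, d < q → Comm (S.X t 0) (S.X t d))
    (i j : ℤ) (hij : |i - j| < q) : Comm (S.X t i) (S.X t j) := by
  rw [abs_lt] at hij
  rcases le_total i j with hle | hle
  · have hd : (j - i).toNat < q := by omega
    have h0 := comm_conj (S.h ^ i) (h _ hd)
    rw [conj_X, conj_X] at h0
    have e1 : i + 0 = i := by ring
    have e2 : i + ((j - i).toNat : ℤ) = j := by
      rw [Int.toNat_of_nonneg (by omega)]; ring
    rwa [e1, e2] at h0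
  · have hd : (i - j).toNat < q := by omega
    have h0 := comm_conj (S.h ^ j) (h _ hd)
    rw [conj_X, conj_X] at h0
    have e1 : j + 0 = j := by ring
    have e2 : j + ((i - j).toNat : ℤ) = i := by
      rw [Int.toNat_of_nonneg (by omega)]; ring
    rw [e1, e2] at h0
    exact Comm.symm h0

/-- (DIST) Step 5: the least non-commuting distance. -/
theorem exists_dist (S : Setup G) (t : ℕ) (hU : S.Uni t)
    (hnc : ∃ d : ℕ, ¬ Comm (S.X t 0) (S.X t d)) : ∃ q : ℕ, S.Dist t q := by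
  classical
  refine ⟨Nat.find hnc, ?_, ?_, ?_⟩
  · rw [Nat.one_le_iff_ne_zero]
    intro h0
    have := Nat.find_spec hnc
    rw [h0] at this
    exact this (by simpa using comm_X_self S t hU 0)
  · intro i j hij
    refine comm_of_forall S t (Nat.find hnc) (fun d hd => ?_) i j hij
    by_contra hcon
    exact Nat.find_min hnc hd hcon
  · intro i hcomm
    have h0 := comm_conj (S.h ^ (-i)) hcomm
    rw [conj_X, conj_X] at h0
    have e1 : -i + i = 0 := by ring
    have e2 : -i + (i + (Nat.find hnc : ℤ)) = (Nat.find hnc : ℤ) := by ring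
    rw [e1, e2] at h0
    exact Nat.find_spec hnc h0

theorem X_le_P (S : Setup G) (t : ℕ) (k : ℤ) (h1 : k ≤ 0) (h2 : 0 ≤ k + ((t - 1 : ℕ) : ℤ)) :
    S.X t k ≤ S.P := by
  have := S.J_le_Pj (i := k) (j := 0) (n := t - 1) h1 h2
  rwa [S.Pj_zero] at this

/-- if `X` commutes with all `X_j`, `-t+1 ≤ j ≤ n`, then it centralizes `K_n` -/
theorem K_le_centralizer (S : Setup G) (t : ℕ) (hI : S.Ivl t) (n : ℕ) (A : Subgroup G)
    (h : ∀ j : ℤ, -(t : ℤ) + 1 ≤ j → j ≤ n → Comm (S.X t j) A) :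
    S.K n ≤ Subgroup.centralizer (A : Set G) := by
  unfold Setup.K
  refine iSup₂_le fun i hi => ?_
  rw [hI.Pj_eq, Iv_le_iff]
  intro k hk1 hk2
  rw [← comm_iff_le_centralizer]
  have := Finset.mem_range.1 hi
  exact h k (by omega) (by omega)

/-- a subgroup of `P` centralized by `K_n` is trivial under (H2) -/
theorem eq_bot_of_central (S : Setup G) (n : ℕ)
    (h2 : S.P ⊓ (Subgroup.center (S.K n)).map (S.K n).subtype = ⊥)
    (A : Subgroup G) (hAP : A ≤ S.P) (hK : S.K n ≤ Subgroup.centralizer (A : Set G)) : A = ⊥ := by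
  rw [eq_bot_iff]
  intro x hx
  rw [← h2]
  refine ⟨hAP hx, ?_⟩
  have hP0 : S.P ≤ S.K n := by
    have : S.Pj ((0 : ℕ) : ℤ) ≤ S.K n :=
      le_iSup₂_of_le (f := fun i (_ : i ∈ Finset.range (n + 1)) => S.Pj (i : ℤ)) 0
        (Finset.mem_range.2 (Nat.succ_pos n)) le_rfl
    simpa [S.Pj_zero] using this
  refine ⟨⟨x, hP0 (hAP hx)⟩, ?_, rfl⟩
  rw [SetLike.mem_coe, Subgroup.mem_center_iff]
  intro y
  apply Subtype.ext
  have := Subgroup.mem_centralizer_iff.1 (hK y.2) x hx
  simpa using this.symm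

/-- (NC) from (H2): some `X_d` does not commute with `X_0`. -/
theorem exists_ncomm (S : Setup G) (t : ℕ) (hU : S.Uni t) (hI : S.Ivl t) (n : ℕ)
    (h2 : S.P ⊓ (Subgroup.center (S.K n)).map (S.K n).subtype = ⊥) :
    ∃ d : ℕ, ¬ Comm (S.X t 0) (S.X t d) := by
  by_contra hcon
  push Not at hcon
  have hall : ∀ i j : ℤ, Comm (S.X t i) (S.X t j) := fun i j =>
    comm_of_forall S t (|i - j|.toNat + 1) (fun d _ => hcon d) i j (by
      have := abs_nonneg (i - j)
      push_cast
      rw [Int.toNat_of_nonneg this]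
      omega)
  have ht := hU.pos
  have hbot := eq_bot_of_central S n h2 (S.X t 0) (X_le_P S t 0 le_rfl (by omega))
    (K_le_centralizer S t hI n _ fun j _ _ => hall j 0)
  exact X_ne_bot S t hU 0 hbot

end Cfsg.Agent.Lib.H5.Glaub
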