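import Cfsg.Agent.Lib.H5.Glaub.NcDist
import Cfsg.Agent.Lib.H1.GlaubPG
import Cfsg.Agent.Lib.H24.GlaubUNI
import Cfsg.Agent.Lib.H13.GlaubIVL
import Cfsg.Agent.Lib.H26.GlaubBND
import Cfsg.Agent.Lib.H14.GlaubCEN
import Cfsg.Agent.Lib.H25.GlaubTQ

/-!
# Glauberman's theorem (S4359) in `Setup` form: all pieces together

Blueprint `tools/blueprints/S4359.md` (helper5); pieces: PG helper1, UNI helper24 (twin helper2), IVL helper13 (twin helper20),
NC + DIST helper5, BND helper26, CEN helper14 (twin helper15), TQ helper25 (twin helper16).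
-/

set_option autoImplicit false

namespace Cfsg.Agent.Lib.H5.Glaub

open scoped Pointwise
open Setup

variable {G : Type*} [Group G] [Finite G]

/-- all the chain data at once: `t`, `q`, the uniserial structure, the interval calculus, the distance `q`, the centres -/
theorem exists_chain (S : Setup G) (n : ℕ)
    (h2 : S.P ⊓ (Subgroup.center (S.K n)).map (S.K n).subtype = ⊥) :
    ∃ t q : ℕ, S.Uni t ∧ S.Ivl t ∧ S.Dist t q ∧ S.Cen t q ∧ Nat.card S.P = S.p ^ t ∧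
      (q ≤ n ∨ 2 * q ≤ n + t) ∧ (q + 1 ≤ t → 2 * t ≤ 3 * q) := by
  obtain ⟨t, hU⟩ := Cfsg.Agent.Lib.H24.Glaub.uni S (Cfsg.Agent.Lib.H1.Glaub.isPGroup S)
  have hI := Cfsg.Agent.Lib.H13.Glaub.ivl S t hU
  obtain ⟨q, hD⟩ := exists_dist S t hU (exists_ncomm S t hU hI n h2)
  have hb := Cfsg.Agent.Lib.H26.Glaub.dist_bound S t q n hU hI hD h2
  have hC := Cfsg.Agent.Lib.H14.Glaub.cen S t q hU hI hD
  have hcard : Nat.card S.P = S.p ^ t := by
    have := hU.card 0 0 (Nat.zero_le _)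
    rwa [S.J_unfold_zero, S.Pj_zero, Nat.sub_zero] at this
  exact ⟨t, q, hU, hI, hD, hC, hcard, hb, fun hq => Cfsg.Agent.Lib.H25.Glaub.two_t_le S t q hU hI hD hC hq⟩

/-- Glauberman 1969, Theorem 1 -/
theorem main (S : Setup G) (n : ℕ) (hn : 1 ≤ n)
    (h2 : S.P ⊓ (Subgroup.center (S.K n)).map (S.K n).subtype = ⊥) :
    ∃ t : ℕ, Nat.card S.P = S.p ^ t ∧ 1 ≤ t ∧ t ≤ 3 * n ∧ t ≠ 3 * n - 1 := by
  obtain ⟨t, q, hU, -, -, -, hcard, hb, h3⟩ := exists_chain S n h2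
  refine ⟨t, hcard, hU.pos, ?_⟩
  have ht := hU.pos
  by_cases hq : q + 1 ≤ t
  · have := h3 hq
    omega
  · omega

end Cfsg.Agent.Lib.H5.Glaub
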