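import Mathlib
import Cfsg.Prelude.Def_CaseTheorems
import Cfsg.Agent.Lib.H22.PPrimeCore
import Cfsg.Agent.Lib.H5.S4Recog
import Cfsg.Agent.Lib.H2.SimsR3

/-!
# Identification of `X / O(X)` (for S4385)
-/

set_option autoImplicit false

namespace Cfsg.Agent.Lib.H5.Glaub

variable {X : Type*} [Group X] [Finite X]

/-- (ID0) if `O ⊴ X` has odd order and `X / O` has a self-centralizing normal 2-subgroup, then `O(X) = O`. -/
theorem oddCore_eq (O : Subgroup X) [O.Normal] (hO : (Nat.card O).Coprime 2)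
    (V : Subgroup (X ⧸ O)) [hVn : V.Normal] (hV : IsPGroup 2 V)
    (hC : Subgroup.centralizer (V : Set (X ⧸ O)) ≤ V) : Cfsg.oddCore X = O := by
  haveI : Fact (Nat.Prime 2) := ⟨Nat.prime_two⟩
  apply le_antisymm
  · have hMn : (Cfsg.oddCore X).Normal := Cfsg.Agent.Lib.H22.pPrimeCore_normal 2
    have hMc : (Nat.card (Cfsg.oddCore X)).Coprime 2 := Cfsg.Agent.Lib.H22.card_pPrimeCore_coprime 2
    have hMbn : ((Cfsg.oddCore X).map (QuotientGroup.mk' O)).Normal :=
      Subgroup.Normal.map hMn _ (QuotientGroup.mk'_surjective O)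
    have hMbc : (Nat.card ((Cfsg.oddCore X).map (QuotientGroup.mk' O))).Coprime 2 :=
      Nat.Coprime.coprime_dvd_left (Subgroup.card_map_dvd _ _) hMc
    obtain ⟨k, hk⟩ := hV.exists_card_eq
    have hdisj : (Cfsg.oddCore X).map (QuotientGroup.mk' O) ⊓ V = ⊥ := by
      apply Subgroup.inf_eq_bot_of_coprime
      rw [hk]
      exact Nat.Coprime.pow_right k hMbc
    have hcomm : (Cfsg.oddCore X).map (QuotientGroup.mk' O) ≤ Subgroup.centralizer (V : Set (X ⧸ O)) := by
      intro m hm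
      rw [Subgroup.mem_centralizer_iff]
      intro v hv
      have h1 : m * v * m⁻¹ * v⁻¹ ∈ (Cfsg.oddCore X).map (QuotientGroup.mk' O) ⊓ V := by
        constructor
        · have : m * v * m⁻¹ * v⁻¹ = m * (v * m⁻¹ * v⁻¹) := by group
          rw [this]
          exact Subgroup.mul_mem _ hm (hMbn.conj_mem _ (Subgroup.inv_mem _ hm) v)
        · exact Subgroup.mul_mem _ (hVn.conj_mem _ hv m) (Subgroup.inv_mem _ hv)
      rw [hdisj, Subgroup.mem_bot] at h1
      calc v * m = (m * v * m⁻¹ * v⁻¹)⁻¹ * (m * v) := by group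
        _ = m * v := by rw [h1]; group
    have hle : (Cfsg.oddCore X).map (QuotientGroup.mk' O) ≤ ⊥ := by
      rw [← hdisj]
      exact le_inf le_rfl (hcomm.trans hC)
    intro x hx
    have : (QuotientGroup.mk' O) x ∈ (⊥ : Subgroup (X ⧸ O)) := hle (Subgroup.mem_map_of_mem _ hx)
    rw [Subgroup.mem_bot] at this
    exact (QuotientGroup.eq_one_iff x).1 this
  · exact Cfsg.Agent.Lib.H22.le_pPrimeCore 2 O inferInstance hO

/-- transport an identification of `X / O` to `X / O(X)` -/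
theorem quot_oddCore_of_eq {Y : Type*} [Group Y] (O : Subgroup X) [O.Normal]
    (h : Cfsg.oddCore X = O) (e : Nonempty (X ⧸ O ≃* Y)) [hn : (Cfsg.oddCore X).Normal] :
    Nonempty (X ⧸ Cfsg.oddCore X ≃* Y) := by
  obtain ⟨e⟩ := e
  exact ⟨(QuotientGroup.quotientMulEquivOfEq h).trans e⟩

theorem isKleinFour_prod_zmod_two : IsKleinFour (Multiplicative (ZMod 2) × Multiplicative (ZMod 2)) where
  card_four := by
    rw [Nat.card_prod]
    simp
  exponent_two := by
    rw [Monoid.exponent_prod]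
    simp [Monoid.exponent_multiplicative, ZMod.exponent]

omit [Finite X] in
/-- a group of order 4 with all squares trivial is a Klein four group -/
theorem isKleinFour_of_card_of_sq (h4 : Nat.card X = 4) (hexp : ∀ y : X, y ^ 2 = 1) : IsKleinFour X where
  card_four := h4
  exponent_two := by
    have h1 : Monoid.exponent X ∣ 2 := Monoid.exponent_dvd_of_forall_pow_eq_one hexp
    rcases (Nat.dvd_prime Nat.prime_two).1 h1 with h | h
    · exfalso
      have : Subsingleton X := Monoid.exp_eq_one_iff.1 h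
      have := Nat.card_eq_one_iff_unique.2 ⟨this, ⟨1⟩⟩
      omega
    · exact h

/-- a subgroup of 2-power order meets a subgroup of odd order trivially -/
theorem inf_eq_bot_of_two_pow (A O : Subgroup X) (k : ℕ) (hA : Nat.card A ∣ 2 ^ k)
    (hO : (Nat.card O).Coprime 2) : A ⊓ O = ⊥ := by
  apply Subgroup.inf_eq_bot_of_coprime
  exact Nat.Coprime.coprime_dvd_left hA (Nat.Coprime.pow_left k hO.symm)

/-- the image in `X / O` of a subgroup meeting `O` trivially has the same order -/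
theorem card_map_mk (A O : Subgroup X) [O.Normal] (h : A ⊓ O = ⊥) :
    Nat.card (A.map (QuotientGroup.mk' O)) = Nat.card A := by
  have hinj : Function.Injective ((QuotientGroup.mk' O).comp A.subtype) := by
    rw [injective_iff_map_eq_one]
    intro a ha
    have h1 : (a : X) ∈ O := (QuotientGroup.eq_one_iff (a : X)).1 ha
    have h2 : (a : X) ∈ A ⊓ O := ⟨a.2, h1⟩
    rw [h, Subgroup.mem_bot] at h2
    exact Subtype.ext h2
  have hr : ((QuotientGroup.mk' O).comp A.subtype).range = A.map (QuotientGroup.mk' O) := by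
    rw [MonoidHom.range_eq_map, ← Subgroup.map_map, ← MonoidHom.range_eq_map, Subgroup.range_subtype]
  rw [← hr]
  exact (Nat.card_congr (MonoidHom.ofInjective hinj).toEquiv).symm

/-- (ID-V4) -/
theorem quot_oddCore_v4 (O : Subgroup X) [O.Normal] (hO : (Nat.card O).Coprime 2) (hidx : O.index = 4)
    (hexp : ∀ x : X, x ^ 2 ∈ O) [(Cfsg.oddCore X).Normal] :
    Nonempty (X ⧸ Cfsg.oddCore X ≃* Multiplicative (ZMod 2) × Multiplicative (ZMod 2)) := by
  have hcard : Nat.card (X ⧸ O) = 4 := by rw [← Subgroup.index_eq_card, hidx]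
  have hsq : ∀ y : X ⧸ O, y ^ 2 = 1 := by
    intro y
    induction y using QuotientGroup.induction_on with
    | H x =>
      rw [← QuotientGroup.mk_pow]
      exact (QuotientGroup.eq_one_iff _).2 (hexp x)
  haveI hk : IsKleinFour (X ⧸ O) := isKleinFour_of_card_of_sq hcard hsq
  haveI := isKleinFour_prod_zmod_two
  have heq : Cfsg.oddCore X = O := by
    refine oddCore_eq O hO ⊤ (IsPGroup.of_card (n := 2) ?_) le_top
    rw [Subgroup.card_top, hcard]; norm_num
  exact quot_oddCore_of_eq O heq IsKleinFour.nonempty_mulEquiv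

/-- common part of (ID-S4), (ID-S4Z2): `A ⊴ X` of 2-power order, `C_X(A) ≤ A ⊔ O`; then the image of `A` in `X / O` is
self-centralizing -/
theorem centralizer_map_le (O : Subgroup X) [O.Normal] (hO : (Nat.card O).Coprime 2)
    (A : Subgroup X) [hAn : A.Normal] (k : ℕ) (hA : Nat.card A ∣ 2 ^ k)
    (hC : Subgroup.centralizer (A : Set X) ≤ A ⊔ O) :
    Subgroup.centralizer ((A.map (QuotientGroup.mk' O) : Subgroup (X ⧸ O)) : Set (X ⧸ O)) ≤
      A.map (QuotientGroup.mk' O) := by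
  have hAO : A ⊓ O = ⊥ := inf_eq_bot_of_two_pow A O k hA hO
  intro yb hyb
  induction yb using QuotientGroup.induction_on with
  | H y =>
    have hy : y ∈ Subgroup.centralizer (A : Set X) := by
      rw [Subgroup.mem_centralizer_iff]
      intro q hq
      have h1 := (Subgroup.mem_centralizer_iff.1 hyb) ((QuotientGroup.mk' O) q)
        (Subgroup.mem_map_of_mem _ hq)
      have h2 : y * q * y⁻¹ * q⁻¹ ∈ O := by
        rw [← QuotientGroup.eq_one_iff]
        have h1' : (QuotientGroup.mk q : X ⧸ O) * QuotientGroup.mk y = QuotientGroup.mk y * QuotientGroup.mk q := h1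
        rw [QuotientGroup.mk_mul, QuotientGroup.mk_mul, QuotientGroup.mk_mul, ← h1', QuotientGroup.mk_inv,
          QuotientGroup.mk_inv]
        group
      have h3 : y * q * y⁻¹ * q⁻¹ ∈ A := A.mul_mem (hAn.conj_mem q hq y) (A.inv_mem hq)
      have h4 : y * q * y⁻¹ * q⁻¹ ∈ A ⊓ O := ⟨h3, h2⟩
      rw [hAO, Subgroup.mem_bot] at h4
      calc q * y = (y * q * y⁻¹ * q⁻¹)⁻¹ * (y * q) := by group
        _ = y * q := by rw [h4]; group
    have h5 := hC hy
    have h6 : (QuotientGroup.mk' O) y ∈ (A ⊔ O).map (QuotientGroup.mk' O) := Subgroup.mem_map_of_mem _ h5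
    rw [Subgroup.map_sup] at h6
    have h7 : O.map (QuotientGroup.mk' O) = ⊥ := by
      rw [eq_bot_iff]
      rintro _ ⟨o, ho, rfl⟩
      rw [Subgroup.mem_bot]
      exact (QuotientGroup.eq_one_iff o).2 ho
    rw [h7, sup_bot_eq] at h6
    exact h6

/-- (ID-S4) -/
theorem quot_oddCore_s4 (O : Subgroup X) [O.Normal] (hO : (Nat.card O).Coprime 2) (hidx : O.index = 24)
    (Q : Subgroup X) [hQn : Q.Normal] (hQ : Nat.card Q = 4) (hQexp : ∀ x ∈ Q, x ^ 2 = 1)
    (hC : Subgroup.centralizer (Q : Set X) ≤ Q ⊔ O) [(Cfsg.oddCore X).Normal] :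
    Nonempty (X ⧸ Cfsg.oddCore X ≃* Equiv.Perm (Fin 4)) := by
  have hcard : Nat.card (X ⧸ O) = 24 := by rw [← Subgroup.index_eq_card, hidx]
  have hQ2 : Nat.card Q ∣ 2 ^ 2 := by rw [hQ]; norm_num
  have hQO : Q ⊓ O = ⊥ := inf_eq_bot_of_two_pow Q O 2 hQ2 hO
  haveI hVn : (Q.map (QuotientGroup.mk' O)).Normal :=
    Subgroup.Normal.map hQn _ (QuotientGroup.mk'_surjective O)
  have hVcard : Nat.card (Q.map (QuotientGroup.mk' O)) = 4 := by rw [card_map_mk Q O hQO, hQ]
  have hVk : IsKleinFour (Q.map (QuotientGroup.mk' O)) := by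
    refine isKleinFour_of_card_of_sq hVcard ?_
    rintro ⟨_, q, hq, rfl⟩
    apply Subtype.ext
    show (QuotientGroup.mk' O) q ^ 2 = 1
    rw [← map_pow, hQexp q hq, map_one]
  have hVC := centralizer_map_le O hO Q 2 hQ2 hC
  have heq : Cfsg.oddCore X = O :=
    oddCore_eq O hO (Q.map (QuotientGroup.mk' O)) (IsPGroup.of_card (n := 2) (by rw [hVcard]; norm_num)) hVC
  exact quot_oddCore_of_eq O heq
    (Cfsg.Agent.Lib.H5.S4Recog.nonempty_mulEquiv_perm_four hcard (Q.map (QuotientGroup.mk' O)) hVk hVC)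

/-- (ID-S4Z2) -/
theorem quot_oddCore_s4z2 (O : Subgroup X) [O.Normal] (hO : (Nat.card O).Coprime 2) (hidx : O.index = 48)
    (W C : Subgroup X) [hWn : W.Normal] (hW : Nat.card W = 4) (hWexp : ∀ x ∈ W, x ^ 2 = 1)
    (hC : Nat.card C = 2) (hCc : C ≤ Subgroup.center X) (hCW : C ⊓ W = ⊥)
    (hcent : Subgroup.centralizer ((W ⊔ C : Subgroup X) : Set X) ≤ W ⊔ C ⊔ O)
    (w : X) (hw2 : w ^ 2 ∈ O) (hw : w ∉ W ⊔ C ⊔ O) [(Cfsg.oddCore X).Normal] :
    Nonempty (X ⧸ Cfsg.oddCore X ≃* Equiv.Perm (Fin 4) × Multiplicative (ZMod 2)) := by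
  have hcard : Nat.card (X ⧸ O) = 48 := by rw [← Subgroup.index_eq_card, hidx]
  haveI hCn : C.Normal := ⟨fun c hc g => by
    have := (Subgroup.mem_center_iff.1 (hCc hc)) g
    have h1 : g * c * g⁻¹ = c := by rw [this]; group
    rw [h1]; exact hc⟩
  haveI hAn : (W ⊔ C).Normal := inferInstance
  have hA8 : Nat.card (W ⊔ C : Subgroup X) ∣ 2 ^ 3 := by
    have := Cfsg.Agent.Lib.H22.card_sup_dvd_mul W C
    rw [hW, hC] at this
    simpa using this
  have hAO : (W ⊔ C) ⊓ O = ⊥ := inf_eq_bot_of_two_pow _ O 3 hA8 hO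
  have hWO : W ⊓ O = ⊥ := by
    rw [eq_bot_iff, ← hAO]; exact inf_le_inf_right _ le_sup_left
  have hCO : C ⊓ O = ⊥ := by
    rw [eq_bot_iff, ← hAO]; exact inf_le_inf_right _ le_sup_right
  haveI hWbn : (W.map (QuotientGroup.mk' O)).Normal :=
    Subgroup.Normal.map hWn _ (QuotientGroup.mk'_surjective O)
  have hWb : Nat.card (W.map (QuotientGroup.mk' O)) = 4 := by rw [card_map_mk W O hWO, hW]
  have hCb : Nat.card (C.map (QuotientGroup.mk' O)) = 2 := by rw [card_map_mk C O hCO, hC]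
  have hWbexp : ∀ x ∈ W.map (QuotientGroup.mk' O), x ^ 2 = 1 := by
    rintro _ ⟨q, hq, rfl⟩
    rw [← map_pow, hWexp q hq, map_one]
  have hCbc : C.map (QuotientGroup.mk' O) ≤ Subgroup.center (X ⧸ O) := by
    rintro _ ⟨c, hc, rfl⟩
    rw [Subgroup.mem_center_iff]
    intro yb
    induction yb using QuotientGroup.induction_on with
    | H y =>
      have := (Subgroup.mem_center_iff.1 (hCc hc)) y
      show (QuotientGroup.mk y : X ⧸ O) * QuotientGroup.mk c = QuotientGroup.mk c * QuotientGroup.mk y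
      rw [← QuotientGroup.mk_mul, ← QuotientGroup.mk_mul, this]
  have hCWb : C.map (QuotientGroup.mk' O) ⊓ W.map (QuotientGroup.mk' O) = ⊥ := by
    rw [eq_bot_iff]
    rintro _ ⟨⟨c, hc, rfl⟩, ⟨q, hq, hqc⟩⟩
    rw [Subgroup.mem_bot]
    have h1 : c⁻¹ * q ∈ O := by
      rw [← QuotientGroup.eq_one_iff, QuotientGroup.mk_mul, QuotientGroup.mk_inv]
      have : (QuotientGroup.mk q : X ⧸ O) = QuotientGroup.mk c := hqc
      rw [this]; group
    have h2 : c⁻¹ * q ∈ (W ⊔ C) ⊓ O :=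
      ⟨Subgroup.mul_mem _ (Subgroup.inv_mem _ (Subgroup.mem_sup_right hc)) (Subgroup.mem_sup_left hq), h1⟩
    rw [hAO, Subgroup.mem_bot] at h2
    have h3 : c = q := by
      calc c = c * (c⁻¹ * q) := by rw [h2, mul_one]
        _ = q := by group
    have h4 : c ∈ C ⊓ W := ⟨hc, h3 ▸ hq⟩
    rw [hCW, Subgroup.mem_bot] at h4
    rw [h4, map_one]
  have hmap : (W ⊔ C).map (QuotientGroup.mk' O) = W.map (QuotientGroup.mk' O) ⊔ C.map (QuotientGroup.mk' O) :=
    Subgroup.map_sup _ _ _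
  have hcentb := centralizer_map_le O hO (W ⊔ C) 3 hA8 hcent
  rw [hmap] at hcentb
  have hwb2 : ((QuotientGroup.mk' O) w) ^ 2 = 1 := by
    rw [← map_pow]; exact (QuotientGroup.eq_one_iff _).2 hw2
  have hwb : (QuotientGroup.mk' O) w ∉ W.map (QuotientGroup.mk' O) ⊔ C.map (QuotientGroup.mk' O) := by
    rw [← hmap]
    rintro ⟨a, ha, hae⟩
    apply hw
    have h1 : a⁻¹ * w ∈ O := by
      rw [← QuotientGroup.eq_one_iff, QuotientGroup.mk_mul, QuotientGroup.mk_inv]
      have : (QuotientGroup.mk a : X ⧸ O) = QuotientGroup.mk w := hae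
      rw [this]; group
    have : w = a * (a⁻¹ * w) := by group
    rw [this]
    exact Subgroup.mul_mem _ (Subgroup.mem_sup_left ha) (Subgroup.mem_sup_right h1)
  have hVp : IsPGroup 2 (W.map (QuotientGroup.mk' O) ⊔ C.map (QuotientGroup.mk' O) : Subgroup (X ⧸ O)) := by
    have h8 : Nat.card (W.map (QuotientGroup.mk' O) ⊔ C.map (QuotientGroup.mk' O) : Subgroup (X ⧸ O)) ∣ 2 ^ 3 := by
      rw [← hmap]
      exact (Subgroup.card_map_dvd _ _).trans hA8
    obtain ⟨k, -, hk⟩ := (Nat.dvd_prime_pow Nat.prime_two).1 h8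
    exact IsPGroup.of_card hk
  haveI hVn : (W.map (QuotientGroup.mk' O) ⊔ C.map (QuotientGroup.mk' O)).Normal := by
    rw [← hmap]
    exact Subgroup.Normal.map hAn _ (QuotientGroup.mk'_surjective O)
  have heq : Cfsg.oddCore X = O := oddCore_eq O hO _ hVp hcentb
  exact quot_oddCore_of_eq O heq
    (Cfsg.Agent.Lib.H2.Sims.s4z2_of_card_48 hcard (W.map (QuotientGroup.mk' O)) (C.map (QuotientGroup.mk' O))
      hWb hWbexp hCb hCbc hCWb hcentb ((QuotientGroup.mk' O) w) hwb2 hwb)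

end Cfsg.Agent.Lib.H5.Glaub
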