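import Mathlib

/-!
# Glauberman's theorem on `P ∩ P^g` of prime index (S4359): interface

Blueprint: `tools/blueprints/S4359.md`.  `h = g⁻¹`, `P_j = h^j P h^(-j) = MulAut.conj (h^j) • P`.
-/

set_option autoImplicit false

namespace Cfsg.Agent.Lib.H5.Glaub

open scoped Pointwise

variable {G : Type*} [Group G]

theorem mem_conj_smul {g x : G} {X : Subgroup G} : x ∈ MulAut.conj g • X ↔ g⁻¹ * x * g ∈ X := by
  rw [Subgroup.mem_pointwise_smul_iff_inv_smul_mem]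
  simp [MulAut.smul_def, MulAut.conj_inv_apply]

theorem conj_mem_conj_smul {g x : G} {X : Subgroup G} (hx : x ∈ X) : g * x * g⁻¹ ∈ MulAut.conj g • X := by
  rw [mem_conj_smul]
  simpa [mul_assoc] using hx

/-- the subgroups `A` and `B` commute elementwise -/
def Comm (A B : Subgroup G) : Prop := ∀ a ∈ A, ∀ b ∈ B, a * b = b * a

/-- the centre of `H`, as a subgroup of the ambient group -/
def zc (H : Subgroup G) : Subgroup G := H ⊓ Subgroup.centralizer (H : Set G)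

theorem mem_zc {H : Subgroup G} {x : G} : x ∈ zc H ↔ x ∈ H ∧ ∀ y ∈ H, y * x = x * y := by
  simp [zc, Subgroup.mem_centralizer_iff]

/-- the data of S4359 (with `h = g⁻¹`) -/
structure Setup (G : Type*) [Group G] where
  P : Subgroup G
  h : G
  p : ℕ
  hp : p.Prime
  norm : ((P ⊓ MulAut.conj h • P).subgroupOf (MulAut.conj h • P)).Normal
  idx : (P ⊓ MulAut.conj h • P).relIndex (MulAut.conj h • P) = p
  core : ∀ Q : Subgroup G, Q ≤ P → (Q.subgroupOf P).Normal → MulAut.conj h • Q = Q → Q = ⊥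

namespace Setup

variable (S : Setup G)

/-- `P_j = h^j P h^(-j)` -/
def Pj (j : ℤ) : Subgroup G := MulAut.conj (S.h ^ j) • S.P

/-- `J i n = P_i ∩ ... ∩ P_(i+n)` -/
def J (i : ℤ) : ℕ → Subgroup G
  | 0 => S.Pj i
  | n + 1 => J i n ⊓ S.Pj (i + (n + 1 : ℕ))

theorem J_unfold_zero (i : ℤ) : S.J i 0 = S.Pj i := by simp only [J]

theorem J_unfold_succ (i : ℤ) (n : ℕ) : S.J i (n + 1) = S.J i n ⊓ S.Pj (i + (n + 1 : ℕ)) := by
  simp only [J]

/-- `X t k = P_k ∩ ... ∩ P_(k+t-1)` (of order `p` when `|P| = p^t`) -/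
def X (t : ℕ) (k : ℤ) : Subgroup G := S.J k (t - 1)

/-- `Iv t a b = ⟨X_a, ..., X_b⟩` (trivial when `b < a`) -/
def Iv (t : ℕ) (a b : ℤ) : Subgroup G := ⨆ k : ℤ, ⨆ (_ : a ≤ k ∧ k ≤ b), S.X t k

/-- `K_n = ⟨P_0, ..., P_n⟩` -/
def K (n : ℕ) : Subgroup G := ⨆ i ∈ Finset.range (n + 1), S.Pj (i : ℤ)

theorem Pj_zero : S.Pj 0 = S.P := by simp [Pj]

theorem Pj_one : S.Pj 1 = MulAut.conj S.h • S.P := by simp [Pj]

theorem conj_Pj (i j : ℤ) : MulAut.conj (S.h ^ i) • S.Pj j = S.Pj (i + j) := by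
  simp only [Pj, smul_smul, ← map_mul, ← zpow_add]

theorem conj_J (i j : ℤ) (n : ℕ) : MulAut.conj (S.h ^ i) • S.J j n = S.J (i + j) n := by
  induction n with
  | zero => simp only [J_unfold_zero, conj_Pj]
  | succ n ih => simp only [J_unfold_succ, Subgroup.smul_inf, ih, conj_Pj, add_assoc]

theorem conj_X (t : ℕ) (i k : ℤ) : MulAut.conj (S.h ^ i) • S.X t k = S.X t (i + k) := conj_J S i k _

theorem mem_J {i : ℤ} {n : ℕ} {x : G} :
    x ∈ S.J i n ↔ ∀ j : ℤ, i ≤ j → j ≤ i + n → x ∈ S.Pj j := by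
  induction n with
  | zero =>
    rw [J_unfold_zero]
    constructor
    · intro hx j h1 h2
      have : j = i := by push_cast at h2; omega
      rw [this]; exact hx
    · intro hx; exact hx i le_rfl (by simp)
  | succ n ih =>
    rw [J_unfold_succ, Subgroup.mem_inf, ih]
    constructor
    · rintro ⟨h1, h2⟩ j hj1 hj2
      by_cases hj : j ≤ i + n
      · exact h1 j hj1 hj
      · have : j = i + (n + 1 : ℕ) := by push_cast at hj2 ⊢; omega
        rw [this]; exact h2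
    · intro hx
      exact ⟨fun j hj1 hj2 => hx j hj1 (by push_cast; omega), hx _ (by push_cast; omega) le_rfl⟩

theorem J_le_Pj {i j : ℤ} {n : ℕ} (h1 : i ≤ j) (h2 : j ≤ i + n) : S.J i n ≤ S.Pj j :=
  fun _ hx => (S.mem_J.1 hx) j h1 h2

/-- `J i n ≤ J i' n'` when the index set `[i', i'+n']` is inside `[i, i+n]` -/
theorem J_le_J {i i' : ℤ} {n n' : ℕ} (h1 : i ≤ i') (h2 : i' + n' ≤ i + n) : S.J i n ≤ S.J i' n' := by
  intro x hx
  rw [mem_J] at hx ⊢
  intro j hj1 hj2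
  exact hx j (by omega) (by omega)

/-- intersection of two overlapping (or adjacent) runs -/
theorem J_inf_J {i i' : ℤ} {n n' : ℕ} (h1 : i ≤ i') (h2 : i' ≤ i + n + 1) (h3 : i + n ≤ i' + n') :
    S.J i n ⊓ S.J i' n' = S.J i (i' + n' - i).toNat := by
  ext x
  rw [Subgroup.mem_inf, mem_J, mem_J, mem_J]
  have hcast : ((i' + n' - i).toNat : ℤ) = i' + n' - i := Int.toNat_of_nonneg (by omega)
  constructor
  · rintro ⟨ha, hb⟩ j hj1 hj2
    by_cases hj : j ≤ i + n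
    · exact ha j hj1 hj
    · exact hb j (by omega) (by omega)
  · intro hx
    exact ⟨fun j hj1 hj2 => hx j hj1 (by omega), fun j hj1 hj2 => hx j (by omega) (by omega)⟩

theorem X_le_Iv (t : ℕ) {a b k : ℤ} (h1 : a ≤ k) (h2 : k ≤ b) : S.X t k ≤ S.Iv t a b :=
  le_iSup₂_of_le k ⟨h1, h2⟩ le_rfl

theorem Iv_le_iff (t : ℕ) {a b : ℤ} {H : Subgroup G} :
    S.Iv t a b ≤ H ↔ ∀ k : ℤ, a ≤ k → k ≤ b → S.X t k ≤ H := by
  simp only [Iv, iSup_le_iff, and_imp]

theorem Iv_mono (t : ℕ) {a b c d : ℤ} (h1 : c ≤ a) (h2 : b ≤ d) : S.Iv t a b ≤ S.Iv t c d :=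
  (S.Iv_le_iff t).2 fun _ hk1 hk2 => S.X_le_Iv t (h1.trans hk1) (hk2.trans h2)

theorem Iv_eq_bot (t : ℕ) {a b : ℤ} (h : b < a) : S.Iv t a b = ⊥ := by
  rw [eq_bot_iff, Iv_le_iff]
  intro k h1 h2
  omega

theorem Iv_self (t : ℕ) (a : ℤ) : S.Iv t a a = S.X t a :=
  le_antisymm ((S.Iv_le_iff t).2 fun k h1 h2 => by rw [le_antisymm h2 h1]) (S.X_le_Iv t le_rfl le_rfl)

theorem conj_Iv (t : ℕ) (i a b : ℤ) : MulAut.conj (S.h ^ i) • S.Iv t a b = S.Iv t (i + a) (i + b) := by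
  apply le_antisymm
  · rw [Subgroup.pointwise_smul_subset_iff, Iv_le_iff]
    intro k h1 h2
    rw [Subgroup.subset_pointwise_smul_iff, inv_inv, conj_X]
    exact S.X_le_Iv t (by omega) (by omega)
  · rw [Iv_le_iff]
    intro k h1 h2
    have : S.X t k = MulAut.conj (S.h ^ i) • S.X t (k - i) := by rw [conj_X]; congr 1; ring
    rw [this]
    exact Subgroup.pointwise_smul_le_pointwise_smul_iff.2 (S.X_le_Iv t (by omega) (by omega))

/-- `Iv a b = Iv a c ⊔ Iv (c+1) b` -/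
theorem Iv_sup (t : ℕ) {a b c : ℤ} (h1 : a ≤ c + 1) (h2 : c ≤ b) :
    S.Iv t a c ⊔ S.Iv t (c + 1) b = S.Iv t a b := by
  apply le_antisymm
  · exact sup_le (S.Iv_mono t le_rfl h2) (S.Iv_mono t h1 le_rfl)
  · rw [Iv_le_iff]
    intro k hk1 hk2
    by_cases hk : k ≤ c
    · exact (S.X_le_Iv t hk1 hk).trans le_sup_left
    · exact (S.X_le_Iv t (by omega) hk2).trans le_sup_right

theorem Comm.symm {A B : Subgroup G} (h : Comm A B) : Comm B A := fun b hb a ha => (h a ha b hb).symm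

theorem comm_conj {A B : Subgroup G} (g : G) (h : Comm A B) :
    Comm (MulAut.conj g • A) (MulAut.conj g • B) := by
  intro a ha b hb
  rw [mem_conj_smul] at ha hb
  have := h _ ha _ hb
  calc a * b = g * ((g⁻¹ * a * g) * (g⁻¹ * b * g)) * g⁻¹ := by group
    _ = g * ((g⁻¹ * b * g) * (g⁻¹ * a * g)) * g⁻¹ := by rw [this]
    _ = b * a := by group

theorem comm_iff_le_centralizer {A B : Subgroup G} : Comm A B ↔ A ≤ Subgroup.centralizer (B : Set G) := by
  constructor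
  · intro h a ha
    rw [Subgroup.mem_centralizer_iff]
    intro b hb
    exact (h a ha b hb).symm
  · intro h a ha b hb
    exact ((Subgroup.mem_centralizer_iff.1 (h ha)) b hb).symm

/-- Steps 1-3 of the blueprint: the chain is uniserial of length `t` -/
structure Uni (t : ℕ) : Prop where
  pos : 1 ≤ t
  card : ∀ (i : ℤ) (n : ℕ), n ≤ t → Nat.card (S.J i n) = S.p ^ (t - n)

/-- Step 4: the interval calculus -/
structure Ivl (t : ℕ) : Prop where
  card : ∀ a b : ℤ, a ≤ b → b < a + t → Nat.card (S.Iv t a b) = S.p ^ ((b - a).toNat + 1)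
  inf : ∀ lo hi a b c d : ℤ, hi < lo + t → lo ≤ a → lo ≤ c → b ≤ hi → d ≤ hi →
    S.Iv t a b ⊓ S.Iv t c d = S.Iv t (max a c) (min b d)
  Pj_eq : ∀ j : ℤ, S.Pj j = S.Iv t (j - t + 1) j

/-- Step 5: `q` is the least distance of two non-commuting `X`'s -/
structure Dist (t q : ℕ) : Prop where
  pos : 1 ≤ q
  comm : ∀ i j : ℤ, |i - j| < q → Comm (S.X t i) (S.X t j)
  ncomm : ∀ i : ℤ, ¬ Comm (S.X t i) (S.X t (i + q))

/-- Step 6: the centres of the interval subgroups -/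
def Cen (t q : ℕ) : Prop :=
  ∀ a b : ℤ, a + q ≤ b + 1 → b < a + t →
    zc (S.Iv t a b) = S.Iv t (b - q + 1) (a + q - 1) ∧ b + 2 ≤ a + 2 * q

end Setup

end Cfsg.Agent.Lib.H5.Glaub
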